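/-
Helper94, project MONO (S5634: the stabiliser of a decomposition is maximal in SL_n).
Basic definitions: monomial / diagonal subgroups of `GL ι F`, diagonal units, columns with a single
non-zero entry, the "frozen block" subgroups and the unipotent elements `1 + e_j ρ`.
-/
import Mathlib
import Cfsg.Prelude.Def_GeometricClasses

set_option autoImplicit false

namespace Cfsg.Agent.Lib.Helper94.Mono

open Matrix

variable {ι : Type} [Fintype ι] [DecidableEq ι] {F : Type*} [Field F]

/-- The monomial subgroup of `GL ι F`: column `j` is supported in row `σ j`. -/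
def monGL (ι : Type) [Fintype ι] [DecidableEq ι] (F : Type*) [Field F] : Subgroup (GL ι F) where
  carrier := {g | ∃ σ : Equiv.Perm ι, ∀ i j, i ≠ σ j → (g : Matrix ι ι F) i j = 0}
  mul_mem' := by
    rintro a b ⟨σ, hσ⟩ ⟨τ, hτ⟩
    refine ⟨σ * τ, fun i j hij => ?_⟩
    rw [Units.val_mul, Matrix.mul_apply]
    refine Finset.sum_eq_zero fun k _ => ?_
    by_cases hk : k = τ j
    · subst hk
      rw [hσ i (τ j) (by simpa using hij), zero_mul]
    · rw [hτ k j hk, mul_zero]
  one_mem' := ⟨1, fun i j hij => by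
    rw [Units.val_one]; exact Matrix.one_apply_ne (by simpa using hij)⟩
  inv_mem' := by
    rintro a ⟨σ, hσ⟩
    refine ⟨σ⁻¹, fun i j hij => ?_⟩
    -- `(a⁻¹ * a) i j' = δ`, and only `k = σ j'` contributes
    have key : ∀ i' j' : ι, ((a⁻¹ : GL ι F) : Matrix ι ι F) i' (σ j') *
        (a : Matrix ι ι F) (σ j') j' = if i' = j' then 1 else 0 := by
      intro i' j'
      have h1 : (((a⁻¹ : GL ι F) : Matrix ι ι F) * (a : Matrix ι ι F)) i' j' =
          (1 : Matrix ι ι F) i' j' := by
        rw [← Units.val_mul, inv_mul_cancel, Units.val_one]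
      rw [Matrix.mul_apply, Matrix.one_apply] at h1
      rw [← h1]
      symm
      apply Finset.sum_eq_single (σ j')
      · intro k _ hk
        rw [hσ k j' hk, mul_zero]
      · intro h; exact absurd (Finset.mem_univ _) h
    have hne : (a : Matrix ι ι F) (σ (σ⁻¹ j)) (σ⁻¹ j) ≠ 0 := by
      intro h0
      have := key (σ⁻¹ j) (σ⁻¹ j)
      rw [h0, mul_zero, if_pos rfl] at this
      exact zero_ne_one this
    have h2 := key i (σ⁻¹ j)
    rw [if_neg hij] at h2
    have h3 : σ (σ⁻¹ j) = j := by simp
    rw [h3] at h2 hne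
    exact (mul_eq_zero.1 h2).resolve_right hne

lemma mem_monGL {g : GL ι F} :
    g ∈ monGL ι F ↔ ∃ σ : Equiv.Perm ι, ∀ i j, i ≠ σ j → (g : Matrix ι ι F) i j = 0 := Iff.rfl

/-- The diagonal subgroup of `GL ι F`. -/
def diagGL (ι : Type) [Fintype ι] [DecidableEq ι] (F : Type*) [Field F] : Subgroup (GL ι F) where
  carrier := {g | ∀ i j, i ≠ j → (g : Matrix ι ι F) i j = 0}
  mul_mem' := by
    intro a b ha hb i j hij
    rw [Units.val_mul, Matrix.mul_apply]
    refine Finset.sum_eq_zero fun k _ => ?_
    by_cases hk : k = j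
    · subst hk; rw [ha i k hij, zero_mul]
    · rw [hb k j hk, mul_zero]
  one_mem' := fun i j hij => by rw [Units.val_one]; exact Matrix.one_apply_ne hij
  inv_mem' := by
    intro a ha
    have hm : a ∈ monGL ι F := ⟨1, fun i j hij => ha i j (by simpa using hij)⟩
    intro i j hij
    have key : ∀ i' j' : ι, ((a⁻¹ : GL ι F) : Matrix ι ι F) i' j' *
        (a : Matrix ι ι F) j' j' = if i' = j' then 1 else 0 := by
      intro i' j'
      have h1 : (((a⁻¹ : GL ι F) : Matrix ι ι F) * (a : Matrix ι ι F)) i' j' =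
          (1 : Matrix ι ι F) i' j' := by
        rw [← Units.val_mul, inv_mul_cancel, Units.val_one]
      rw [Matrix.mul_apply, Matrix.one_apply] at h1
      rw [← h1]
      symm
      apply Finset.sum_eq_single j'
      · intro k _ hk
        rw [ha k j' hk, mul_zero]
      · intro h; exact absurd (Finset.mem_univ _) h
    have hne : (a : Matrix ι ι F) j j ≠ 0 := by
      intro h0
      have := key j j
      rw [h0, mul_zero, if_pos rfl] at this
      exact zero_ne_one this
    have h2 := key i j
    rw [if_neg hij] at h2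
    exact (mul_eq_zero.1 h2).resolve_right hne

lemma mem_diagGL {g : GL ι F} :
    g ∈ diagGL ι F ↔ ∀ i j, i ≠ j → (g : Matrix ι ι F) i j = 0 := Iff.rfl

lemma diagGL_le_monGL : diagGL ι F ≤ monGL ι F :=
  fun _ ha => ⟨1, fun i j hij => ha i j (by simpa using hij)⟩

/-- The diagonal unit with entries `d i`. -/
def diagUnit (d : ι → Fˣ) : GL ι F where
  val := Matrix.diagonal fun i => (d i : F)
  inv := Matrix.diagonal fun i => ((d i)⁻¹ : Fˣ)
  val_inv := by
    rw [Matrix.diagonal_mul_diagonal]
    simp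
  inv_val := by
    rw [Matrix.diagonal_mul_diagonal]
    simp

@[simp] lemma diagUnit_val (d : ι → Fˣ) :
    ((diagUnit d : GL ι F) : Matrix ι ι F) = Matrix.diagonal fun i => (d i : F) := rfl

@[simp] lemma diagUnit_inv_val (d : ι → Fˣ) :
    (((diagUnit d)⁻¹ : GL ι F) : Matrix ι ι F) =
      Matrix.diagonal fun i => (((d i)⁻¹ : Fˣ) : F) := rfl

lemma diagUnit_mem_diagGL (d : ι → Fˣ) : diagUnit d ∈ diagGL ι F :=
  fun i j hij => by rw [diagUnit_val, Matrix.diagonal_apply_ne _ hij]

lemma diagUnit_mul (d d' : ι → Fˣ) : diagUnit d * diagUnit d' = diagUnit (d * d') := by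
  apply Units.ext
  rw [Units.val_mul, diagUnit_val, diagUnit_val, diagUnit_val, Matrix.diagonal_mul_diagonal]
  simp

lemma det_diagUnit (d : ι → Fˣ) :
    Matrix.GeneralLinearGroup.det (diagUnit d : GL ι F) = ∏ i, d i := by
  apply Units.ext
  rw [Matrix.GeneralLinearGroup.val_det_apply, diagUnit_val, Matrix.det_diagonal]
  simp

/-- the special linear group, in the form used by the frozen statements -/
abbrev slGL (ι : Type) [Fintype ι] [DecidableEq ι] (F : Type*) [Field F] : Subgroup (GL ι F) :=
  Cfsg.Geo.specialLinear ι F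

lemma mem_slGL {g : GL ι F} : g ∈ slGL ι F ↔ (g : Matrix ι ι F).det = 1 := by
  change g ∈ (Matrix.GeneralLinearGroup.det : GL ι F →* Fˣ).ker ↔ _
  rw [MonoidHom.mem_ker, ← Units.val_inj, Matrix.GeneralLinearGroup.val_det_apply, Units.val_one]

lemma diagUnit_mem_slGL {d : ι → Fˣ} (hd : ∏ i, d i = 1) : diagUnit d ∈ slGL ι F := by
  change diagUnit d ∈ (Matrix.GeneralLinearGroup.det : GL ι F →* Fˣ).ker
  rw [MonoidHom.mem_ker, det_diagUnit, hd]

/-- the diagonal unit with `c` in position `k` and `1` elsewhere -/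
def dg (k : ι) (c : Fˣ) : GL ι F := diagUnit (Function.update 1 k c)

/-- the diagonal unit with `c` in position `k`, `c⁻¹` in position `l` and `1` elsewhere -/
def dg2 (k l : ι) (c : Fˣ) : GL ι F := dg k c * dg l c⁻¹

/-- column `j` of `g` has at most one non-zero entry -/
def colMono (g : GL ι F) (j : ι) : Prop := ∃ i, ∀ i', i' ≠ i → (g : Matrix ι ι F) i' j = 0

/-- The matrices that are the identity in the rows and the columns of the "frozen" set `A`. -/
def blockGL (ι : Type) [Fintype ι] [DecidableEq ι] (F : Type*) [Field F] (A : Finset ι) :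
    Subgroup (GL ι F) where
  carrier := {g | ∀ i ∈ A, ∀ j, (g : Matrix ι ι F) i j = (1 : Matrix ι ι F) i j ∧
    (g : Matrix ι ι F) j i = (1 : Matrix ι ι F) j i}
  mul_mem' := by
    intro a b ha hb i hi j
    rw [Units.val_mul]
    constructor
    · rw [Matrix.mul_apply, Finset.sum_eq_single i]
      · rw [(ha i hi i).1, Matrix.one_apply_eq, one_mul, (hb i hi j).1]
      · intro k _ hk
        rw [(ha i hi k).1, Matrix.one_apply_ne hk.symm, zero_mul]
      · intro h; exact absurd (Finset.mem_univ _) h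
    · rw [Matrix.mul_apply, Finset.sum_eq_single i]
      · rw [(hb i hi i).2, Matrix.one_apply_eq, mul_one, (ha i hi j).2]
      · intro k _ hk
        rw [(hb i hi k).2, Matrix.one_apply_ne hk, mul_zero]
      · intro h; exact absurd (Finset.mem_univ _) h
  one_mem' := fun i _ j => by rw [Units.val_one]; exact ⟨rfl, rfl⟩
  inv_mem' := by
    intro a ha i hi j
    have h1 : ((a⁻¹ : GL ι F) : Matrix ι ι F) * (a : Matrix ι ι F) = 1 := by
      rw [← Units.val_mul, inv_mul_cancel, Units.val_one]
    have h2 : (a : Matrix ι ι F) * ((a⁻¹ : GL ι F) : Matrix ι ι F) = 1 := by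
      rw [← Units.val_mul, mul_inv_cancel, Units.val_one]
    constructor
    · -- row i of a⁻¹: use a * a⁻¹ = 1, row i of a is e_i
      have := congrFun (congrFun h2 i) j
      rw [Matrix.mul_apply, Finset.sum_eq_single i] at this
      · rw [(ha i hi i).1, Matrix.one_apply_eq, one_mul] at this
        exact this
      · intro k _ hk
        rw [(ha i hi k).1, Matrix.one_apply_ne hk.symm, zero_mul]
      · intro h; exact absurd (Finset.mem_univ _) h
    · have := congrFun (congrFun h1 j) i
      rw [Matrix.mul_apply, Finset.sum_eq_single i] at this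
      · rw [(ha i hi i).2, Matrix.one_apply_eq, mul_one] at this
        exact this
      · intro k _ hk
        rw [(ha i hi k).2, Matrix.one_apply_ne hk, mul_zero]
      · intro h; exact absurd (Finset.mem_univ _) h

lemma mem_blockGL {A : Finset ι} {g : GL ι F} :
    g ∈ blockGL ι F A ↔ ∀ i ∈ A, ∀ j, (g : Matrix ι ι F) i j = (1 : Matrix ι ι F) i j ∧
      (g : Matrix ι ι F) j i = (1 : Matrix ι ι F) j i := Iff.rfl

lemma blockGL_empty : blockGL ι F ∅ = ⊤ := by
  ext g; simp [mem_blockGL]

lemma blockGL_anti {A B : Finset ι} (h : A ⊆ B) : blockGL ι F B ≤ blockGL ι F A :=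
  fun _ hg i hi j => hg i (h hi) j

/-- the unipotent element `1 + e_j ρ` (`ρ` a row vector with `ρ j = 0`) -/
def rowTr (j : ι) (ρ : ι → F) (hρ : ρ j = 0) : GL ι F where
  val := 1 + Matrix.vecMulVec (Pi.single j 1) ρ
  inv := 1 - Matrix.vecMulVec (Pi.single j 1) ρ
  val_inv := by
    have h : Matrix.vecMulVec (Pi.single j (1 : F)) ρ * Matrix.vecMulVec (Pi.single j (1 : F)) ρ
        = 0 := by
      ext a b
      simp [Matrix.mul_apply, Matrix.vecMulVec_apply, Pi.single_apply, hρ]
    have h' : (1 + Matrix.vecMulVec (Pi.single j (1 : F)) ρ) *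
        (1 - Matrix.vecMulVec (Pi.single j (1 : F)) ρ) = 1 -
        Matrix.vecMulVec (Pi.single j (1 : F)) ρ * Matrix.vecMulVec (Pi.single j (1 : F)) ρ := by
      noncomm_ring
    rw [h', h, sub_zero]
  inv_val := by
    have h : Matrix.vecMulVec (Pi.single j (1 : F)) ρ * Matrix.vecMulVec (Pi.single j (1 : F)) ρ
        = 0 := by
      ext a b
      simp [Matrix.mul_apply, Matrix.vecMulVec_apply, Pi.single_apply, hρ]
    have h' : (1 - Matrix.vecMulVec (Pi.single j (1 : F)) ρ) *
        (1 + Matrix.vecMulVec (Pi.single j (1 : F)) ρ) = 1 -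
        Matrix.vecMulVec (Pi.single j (1 : F)) ρ * Matrix.vecMulVec (Pi.single j (1 : F)) ρ := by
      noncomm_ring
    rw [h', h, sub_zero]

lemma rowTr_apply (j : ι) (ρ : ι → F) (hρ : ρ j = 0) (a b : ι) :
    ((rowTr j ρ hρ : GL ι F) : Matrix ι ι F) a b =
      (if a = b then 1 else 0) + (if a = j then ρ b else 0) := by
  change ((1 : Matrix ι ι F) + Matrix.vecMulVec (Pi.single j 1) ρ) a b = _
  rw [Matrix.add_apply, Matrix.one_apply, Matrix.vecMulVec_apply, Pi.single_apply]
  simp

/-- the elementary transvection `1 + c E_ij` as an element of `GL ι F` -/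
noncomputable def etr {i j : ι} (hij : i ≠ j) (c : F) : GL ι F :=
  Matrix.SpecialLinearGroup.toGL (Matrix.SpecialLinearGroup.transvection hij c)

lemma etr_val {i j : ι} (hij : i ≠ j) (c : F) :
    ((etr hij c : GL ι F) : Matrix ι ι F) = 1 + Matrix.single i j c := by
  rw [etr]
  change ((Matrix.SpecialLinearGroup.transvection hij c : Matrix.SpecialLinearGroup ι F) :
    Matrix ι ι F) = _
  rw [Matrix.SpecialLinearGroup.transvection_coe]

/-- "trivial intersection" hypothesis relative to the frozen set `A`: an element of `H` with a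
monomial column outside `A` is monomial. -/
def TI (A : Finset ι) (H : Subgroup (GL ι F)) : Prop :=
  ∀ h ∈ H, (∃ j, j ∉ A ∧ colMono h j) → h ∈ monGL ι F

end Cfsg.Agent.Lib.Helper94.Mono
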