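/-
Helper94, project MONO: a monomial matrix killed by (X-1)(X-ε) (ε ≠ -1), resp. by
X³ - sX² + sX - 1 (s ∉ {0, 1, -1}), is diagonal.
-/
import Mathlib
import Cfsg.Agent.Lib.Helper94.Mono.Defs

set_option autoImplicit false

namespace Cfsg.Agent.Lib.Helper94.Mono

open Matrix

variable {ι : Type} [Fintype ι] [DecidableEq ι] {F : Type*} [Field F]

/-- multiplying on the right by a monomial matrix -/
lemma mul_mon_apply {h : GL ι F} {σ : Equiv.Perm ι}
    (hσ : ∀ i j, i ≠ σ j → (h : Matrix ι ι F) i j = 0) (N : Matrix ι ι F) (x i : ι) :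
    (N * (h : Matrix ι ι F)) x i = N x (σ i) * (h : Matrix ι ι F) (σ i) i := by
  rw [Matrix.mul_apply]
  apply Finset.sum_eq_single (σ i)
  · intro k _ hk
    rw [hσ k i hk, mul_zero]
  · intro h'; exact absurd (Finset.mem_univ _) h'

/-- the non-zero entry of a column of a monomial matrix -/
lemma mon_entry_ne_zero {h : GL ι F} {σ : Equiv.Perm ι}
    (hσ : ∀ i j, i ≠ σ j → (h : Matrix ι ι F) i j = 0) (i : ι) :
    (h : Matrix ι ι F) (σ i) i ≠ 0 := by
  intro h0
  have h1 : (((h⁻¹ : GL ι F) : Matrix ι ι F) * (h : Matrix ι ι F)) i i = 1 := by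
    rw [← Units.val_mul, inv_mul_cancel, Units.val_one, Matrix.one_apply_eq]
  rw [mul_mon_apply hσ, h0, mul_zero] at h1
  exact zero_ne_one h1

lemma mon_apply_of_ne {h : GL ι F} {σ : Equiv.Perm ι}
    (hσ : ∀ i j, i ≠ σ j → (h : Matrix ι ι F) i j = 0) {x i : ι} (hx : x ≠ σ i) :
    (h : Matrix ι ι F) x i = 0 := hσ x i hx

lemma diag_of_perm_eq_one {h : GL ι F} {σ : Equiv.Perm ι}
    (hσ : ∀ i j, i ≠ σ j → (h : Matrix ι ι F) i j = 0) (h1 : ∀ i, σ i = i) : h ∈ diagGL ι F := by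
  intro a b hab
  exact hσ a b (by rw [h1 b]; exact hab)

theorem diag_of_mon_of_quad {h : GL ι F} (hm : h ∈ monGL ι F) {ε : F} (hε0 : ε ≠ 0) (hε1 : ε ≠ -1)
    (hP : (h : Matrix ι ι F) * (h : Matrix ι ι F) - (1 + ε) • (h : Matrix ι ι F) +
      ε • (1 : Matrix ι ι F) = 0) : h ∈ diagGL ι F := by
  obtain ⟨σ, hσ⟩ := hm
  apply diag_of_perm_eq_one hσ
  intro i
  by_contra hi
  have hc := mon_entry_ne_zero hσ i
  have h1 := congrFun (congrFun hP (σ i)) i
  rw [Matrix.add_apply, Matrix.sub_apply, Matrix.smul_apply, Matrix.smul_apply, mul_mon_apply hσ,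
    Matrix.one_apply_ne hi, Matrix.zero_apply] at h1
  have h2 : (h : Matrix ι ι F) (σ i) (σ i) = 0 := by
    apply hσ
    intro h3
    exact hi (σ.injective h3).symm
  rw [h2, zero_mul, smul_eq_mul, smul_eq_mul, mul_zero, add_zero, zero_sub, neg_eq_zero] at h1
  rcases mul_eq_zero.1 h1 with h4 | h4
  · apply hε1
    linear_combination h4
  · exact hc h4

theorem diag_of_mon_of_cubic {h : GL ι F} (hm : h ∈ monGL ι F) {s : F} (hs0 : s ≠ 0) (hs1 : s ≠ 1)
    (hs2 : s ≠ -1)
    (hP : (h : Matrix ι ι F) * (h : Matrix ι ι F) * (h : Matrix ι ι F) -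
      s • ((h : Matrix ι ι F) * (h : Matrix ι ι F)) + s • (h : Matrix ι ι F) -
      (1 : Matrix ι ι F) = 0) : h ∈ diagGL ι F := by
  obtain ⟨σ, hσ⟩ := hm
  apply diag_of_perm_eq_one hσ
  intro i
  by_contra hi
  have hc := mon_entry_ne_zero hσ i
  have hca := mon_entry_ne_zero hσ (σ i)
  -- entry (σ i, i)
  have h1 := congrFun (congrFun hP (σ i)) i
  rw [Matrix.sub_apply, Matrix.add_apply, Matrix.sub_apply, Matrix.smul_apply, Matrix.smul_apply,
    mul_mon_apply hσ, mul_mon_apply hσ, mul_mon_apply hσ, Matrix.one_apply_ne hi,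
    Matrix.zero_apply] at h1
  have h2 : (h : Matrix ι ι F) (σ i) (σ i) = 0 := by
    apply hσ
    intro h3
    exact hi (σ.injective h3).symm
  rw [h2, zero_mul, smul_eq_mul, smul_eq_mul, mul_zero, sub_zero, sub_zero] at h1
  -- so `h (σ i) (σ (σ i)) ≠ 0`, i.e. `σ i = σ (σ (σ i))`
  have h4 : σ (σ i) = i := by
    by_contra h5
    have h6 : (h : Matrix ι ι F) (σ i) (σ (σ i)) = 0 := by
      apply hσ
      intro h7
      exact h5 (σ.injective h7).symm
    rw [h6, zero_mul, zero_mul, zero_add] at h1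
    rcases mul_eq_zero.1 h1 with h8 | h8
    · exact hs0 h8
    · exact hc h8
  rw [h4] at h1
  -- μ = -s
  have hμ : (h : Matrix ι ι F) i (σ i) * (h : Matrix ι ι F) (σ i) i = -s := by
    have hca' : (h : Matrix ι ι F) i (σ i) ≠ 0 := by
      have := hca; rwa [h4] at this
    have : (h : Matrix ι ι F) (σ i) i *
        ((h : Matrix ι ι F) i (σ i) * (h : Matrix ι ι F) (σ i) i + s) = 0 := by
      linear_combination h1
    rcases mul_eq_zero.1 this with h8 | h8
    · exact absurd h8 hc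
    · linear_combination h8
  -- entry (i, i)
  have h9 := congrFun (congrFun hP i) i
  rw [Matrix.sub_apply, Matrix.add_apply, Matrix.sub_apply, Matrix.smul_apply, Matrix.smul_apply,
    mul_mon_apply hσ, mul_mon_apply hσ, mul_mon_apply hσ, Matrix.one_apply_eq,
    Matrix.zero_apply, h4] at h9
  have h10 : (h : Matrix ι ι F) i i = 0 := by
    apply hσ
    exact fun h11 => hi h11.symm
  rw [h10, zero_mul, zero_mul, smul_eq_mul, smul_eq_mul, mul_zero, add_zero, zero_sub, hμ] at h9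
  have h12 : (s - 1) * (s + 1) = 0 := by linear_combination h9
  rcases mul_eq_zero.1 h12 with h13 | h13
  · exact hs1 (by linear_combination h13)
  · exact hs2 (by linear_combination h13)

end Cfsg.Agent.Lib.Helper94.Mono
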