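/-
Helper94, project MONO: basic facts on `dg`, and Step 1 of the GL analysis: under the TI hypothesis
a non-monomial element has no zero entry in the free block.
-/
import Mathlib
import Cfsg.Agent.Lib.Helper94.Mono.Poly

set_option autoImplicit false

namespace Cfsg.Agent.Lib.Helper94.Mono

open Matrix

variable {ι : Type} [Fintype ι] [DecidableEq ι] {F : Type*} [Field F]

lemma dg_val (k : ι) (c : Fˣ) :
    ((dg k c : GL ι F) : Matrix ι ι F) = Matrix.diagonal fun i => if i = k then (c : F) else 1 := by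
  rw [dg, diagUnit_val]
  congr 1
  funext i
  by_cases hi : i = k
  · subst hi; simp
  · simp [hi]

lemma dg_inv_val (k : ι) (c : Fˣ) :
    (((dg k c)⁻¹ : GL ι F) : Matrix ι ι F) =
      Matrix.diagonal fun i => if i = k then ((c⁻¹ : Fˣ) : F) else 1 := by
  rw [dg, diagUnit_inv_val]
  congr 1
  funext i
  by_cases hi : i = k
  · subst hi; simp
  · simp [hi]

lemma dg_mem_diagGL (k : ι) (c : Fˣ) : (dg k c : GL ι F) ∈ diagGL ι F := diagUnit_mem_diagGL _

lemma dg_mem_monGL (k : ι) (c : Fˣ) : (dg k c : GL ι F) ∈ monGL ι F :=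
  diagGL_le_monGL (dg_mem_diagGL k c)

lemma dg_mem_blockGL {A : Finset ι} {k : ι} (hk : k ∉ A) (c : Fˣ) :
    (dg k c : GL ι F) ∈ blockGL ι F A := by
  intro i hi j
  have hik : i ≠ k := fun h => hk (h ▸ hi)
  rw [dg_val]
  constructor
  · by_cases hij : i = j
    · subst hij; simp [hik]
    · rw [Matrix.diagonal_apply_ne _ hij, Matrix.one_apply_ne hij]
  · by_cases hij : j = i
    · subst hij; simp [hik]
    · rw [Matrix.diagonal_apply_ne _ hij, Matrix.one_apply_ne hij]

lemma dg_mul_apply (k : ι) (c : Fˣ) (N : Matrix ι ι F) (a b : ι) :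
    (((dg k c : GL ι F) : Matrix ι ι F) * N) a b = (if a = k then (c : F) else 1) * N a b := by
  rw [dg_val, Matrix.diagonal_mul]

lemma mul_dg_apply (k : ι) (c : Fˣ) (N : Matrix ι ι F) (a b : ι) :
    (N * ((dg k c : GL ι F) : Matrix ι ι F)) a b = N a b * (if b = k then (c : F) else 1) := by
  rw [dg_val, Matrix.mul_diagonal]

/-- the quadratic relation of `dg k c` -/
lemma dg_quad (k : ι) (c : Fˣ) :
    ((dg k c : GL ι F) : Matrix ι ι F) * ((dg k c : GL ι F) : Matrix ι ι F) -
      (1 + (c : F)) • ((dg k c : GL ι F) : Matrix ι ι F) + (c : F) • (1 : Matrix ι ι F) = 0 := by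
  ext a b
  rw [Matrix.add_apply, Matrix.sub_apply, Matrix.smul_apply, Matrix.smul_apply, dg_mul_apply,
    Matrix.zero_apply, dg_val]
  by_cases hab : a = b
  · subst hab
    rw [Matrix.diagonal_apply_eq, Matrix.one_apply_eq]
    by_cases hak : a = k
    · simp only [hak, if_true, smul_eq_mul]; ring
    · simp only [hak, if_false, smul_eq_mul]; ring
  · rw [Matrix.diagonal_apply_ne _ hab, Matrix.one_apply_ne hab]
    simp

/-- there is a unit different from `1` and `-1` -/
lemma exists_unit_ne [Fintype F] (hq : 4 ≤ Fintype.card F) :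
    ∃ ε : Fˣ, (ε : F) ≠ 1 ∧ (ε : F) ≠ -1 := by
  classical
  by_contra hcon
  push Not at hcon
  have hsub : (Finset.univ : Finset F) ⊆ {0, 1, -1} := by
    intro x _
    by_cases hx : x = 0
    · simp [hx]
    · have := hcon (Units.mk0 x hx)
      by_cases hx1 : x = 1
      · simp [hx1]
      · have := this (by simpa using hx1)
        simp only [Units.val_mk0] at this
        simp [this]
  have := Finset.card_le_card hsub
  have h3 : ({0, 1, -1} : Finset F).card ≤ 3 := Finset.card_le_three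
  rw [Finset.card_univ] at this
  omega

theorem noZero_of_TI [Fintype F] (hq : 4 ≤ Fintype.card F) {A : Finset ι} {H : Subgroup (GL ι F)}
    (hMon : monGL ι F ⊓ blockGL ι F A ≤ H) (hH : H ≤ blockGL ι F A) (hTI : TI A H)
    {g : GL ι F} (hg : g ∈ H) (hgm : g ∉ monGL ι F) :
    ∀ i, i ∉ A → ∀ j, j ∉ A → (g : Matrix ι ι F) i j ≠ 0 := by
  intro m hm j hj h0
  obtain ⟨ε, hε1, hε2⟩ := exists_unit_ne hq
  have hxH : (dg m ε : GL ι F) ∈ H := hMon ⟨dg_mem_monGL m ε, dg_mem_blockGL hm ε⟩
  set x : GL ι F := dg m ε with hx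
  set h : GL ι F := g⁻¹ * x * g with hh
  have hhH : h ∈ H := H.mul_mem (H.mul_mem (H.inv_mem hg) hxH) hg
  have hginv : ((g⁻¹ : GL ι F) : Matrix ι ι F) * (g : Matrix ι ι F) = 1 := by
    rw [← Units.val_mul, inv_mul_cancel, Units.val_one]
  have hgg : (g : Matrix ι ι F) * ((g⁻¹ : GL ι F) : Matrix ι ι F) = 1 := by
    rw [← Units.val_mul, mul_inv_cancel, Units.val_one]
  -- `x g` has the same column `j` as `g`
  have hcol : ∀ a, ((x : Matrix ι ι F) * (g : Matrix ι ι F)) a j = (g : Matrix ι ι F) a j := by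
    intro a
    rw [hx, dg_mul_apply]
    by_cases ha : a = m
    · subst ha; rw [h0, mul_zero]
    · rw [if_neg ha, one_mul]
  have hhval : (h : Matrix ι ι F) = ((g⁻¹ : GL ι F) : Matrix ι ι F) *
      ((x : Matrix ι ι F) * (g : Matrix ι ι F)) := by
    rw [hh, Units.val_mul, Units.val_mul, Matrix.mul_assoc]
  have hhcol : ∀ a, (h : Matrix ι ι F) a j = (1 : Matrix ι ι F) a j := by
    intro a
    rw [hhval, Matrix.mul_apply, ← hginv, Matrix.mul_apply]
    exact Finset.sum_congr rfl fun k _ => by rw [hcol]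
  have hmono : colMono h j := ⟨j, fun i' hi' => by rw [hhcol, Matrix.one_apply_ne hi']⟩
  have hhm : h ∈ monGL ι F := hTI h hhH ⟨j, hj, hmono⟩
  -- the quadratic relation
  have hquad : (h : Matrix ι ι F) * (h : Matrix ι ι F) - (1 + (ε : F)) • (h : Matrix ι ι F) +
      (ε : F) • (1 : Matrix ι ι F) = 0 := by
    have hq0 := dg_quad (F := F) m ε
    rw [← hx] at hq0
    have h1 : (h : Matrix ι ι F) = ((g⁻¹ : GL ι F) : Matrix ι ι F) * (x : Matrix ι ι F) *
        (g : Matrix ι ι F) := by
      rw [hh, Units.val_mul, Units.val_mul]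
    have h2 : (h : Matrix ι ι F) * (h : Matrix ι ι F) = ((g⁻¹ : GL ι F) : Matrix ι ι F) *
        ((x : Matrix ι ι F) * (x : Matrix ι ι F)) * (g : Matrix ι ι F) := by
      rw [h1]
      calc ((g⁻¹ : GL ι F) : Matrix ι ι F) * (x : Matrix ι ι F) * (g : Matrix ι ι F) *
            (((g⁻¹ : GL ι F) : Matrix ι ι F) * (x : Matrix ι ι F) * (g : Matrix ι ι F))
          = ((g⁻¹ : GL ι F) : Matrix ι ι F) * (x : Matrix ι ι F) *
            ((g : Matrix ι ι F) * ((g⁻¹ : GL ι F) : Matrix ι ι F)) * (x : Matrix ι ι F) *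
            (g : Matrix ι ι F) := by simp only [Matrix.mul_assoc]
        _ = _ := by rw [hgg, Matrix.mul_one]; simp only [Matrix.mul_assoc]
    have h3 : ((g⁻¹ : GL ι F) : Matrix ι ι F) * ((x : Matrix ι ι F) * (x : Matrix ι ι F) -
        (1 + (ε : F)) • (x : Matrix ι ι F) + (ε : F) • (1 : Matrix ι ι F)) * (g : Matrix ι ι F) =
        ((g⁻¹ : GL ι F) : Matrix ι ι F) * ((x : Matrix ι ι F) * (x : Matrix ι ι F)) *
          (g : Matrix ι ι F) - (1 + (ε : F)) • (((g⁻¹ : GL ι F) : Matrix ι ι F) *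
          (x : Matrix ι ι F) * (g : Matrix ι ι F)) + (ε : F) • (1 : Matrix ι ι F) := by
      rw [Matrix.mul_add, Matrix.mul_sub, Matrix.add_mul, Matrix.sub_mul, Matrix.mul_smul,
        Matrix.smul_mul, Matrix.mul_smul, Matrix.smul_mul, Matrix.mul_one, hginv]
    rw [h2, h1, ← h3, hq0, Matrix.mul_zero, Matrix.zero_mul]
  have hdiag := diag_of_mon_of_quad hhm (Units.ne_zero ε) hε2 hquad
  -- `x g = g h` with `h` diagonal
  have hxg : (x : Matrix ι ι F) * (g : Matrix ι ι F) = (g : Matrix ι ι F) * (h : Matrix ι ι F) := by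
    rw [hhval, ← Matrix.mul_assoc, hgg, Matrix.one_mul]
  have hent : ∀ k a, (if k = m then (ε : F) else 1) * (g : Matrix ι ι F) k a =
      (g : Matrix ι ι F) k a * (h : Matrix ι ι F) a a := by
    intro k a
    have := congrFun (congrFun hxg k) a
    rw [hx, dg_mul_apply, Matrix.mul_apply, Finset.sum_eq_single a] at this
    · exact this
    · intro b _ hb
      rw [hdiag b a hb, mul_zero]
    · intro h'; exact absurd (Finset.mem_univ _) h'
  -- row `m` of `g` is non-zero
  have hrow : ∃ a, (g : Matrix ι ι F) m a ≠ 0 := by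
    by_contra hcon
    push Not at hcon
    have := congrFun (congrFun hgg m) m
    rw [Matrix.mul_apply, Matrix.one_apply_eq] at this
    rw [Finset.sum_eq_zero (fun k _ => by rw [hcon k, zero_mul])] at this
    exact zero_ne_one this
  obtain ⟨a, ha⟩ := hrow
  have hhaa : (h : Matrix ι ι F) a a = ε := by
    have := hent m a
    rw [if_pos rfl] at this
    have h5 : (g : Matrix ι ι F) m a * ((ε : F) - (h : Matrix ι ι F) a a) = 0 := by
      linear_combination this
    rcases mul_eq_zero.1 h5 with h6 | h6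
    · exact absurd h6 ha
    · linear_combination -h6
  have hcola : ∀ k, k ≠ m → (g : Matrix ι ι F) k a = 0 := by
    intro k hk
    have := hent k a
    rw [if_neg hk, hhaa, one_mul] at this
    have h5 : (g : Matrix ι ι F) k a * (1 - (ε : F)) = 0 := by linear_combination this
    rcases mul_eq_zero.1 h5 with h6 | h6
    · exact h6
    · exact absurd (by linear_combination -h6) hε1
  have haA : a ∉ A := by
    intro haA
    have := ((hH hg) a haA m).2
    rw [this] at ha
    by_cases hma : m = a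
    · exact hm (hma ▸ haA)
    · exact ha (Matrix.one_apply_ne hma)
  exact hgm (hTI g hg ⟨a, haA, m, hcola⟩)

end Cfsg.Agent.Lib.Helper94.Mono
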