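/-
Helper94, project MONO: permutation matrices as elements of `GL ι F`.
`permGL σ` maps `e_b` to `e_{σ b}`.
-/
import Mathlib
import Cfsg.Agent.Lib.Helper94.Mono.Defs

set_option autoImplicit false
set_option linter.unusedSectionVars false

namespace Cfsg.Agent.Lib.Helper94.Mono

open Matrix

variable {ι : Type} [Fintype ι] [DecidableEq ι] {F : Type*} [Field F]

/-- the permutation matrix with `1` in the entries `(σ b, b)` -/
def permMat (F : Type*) [Field F] (σ : Equiv.Perm ι) : Matrix ι ι F :=
  fun a b => if a = σ b then 1 else 0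

lemma permMat_apply (σ : Equiv.Perm ι) (a b : ι) :
    permMat F σ a b = if a = σ b then 1 else 0 := rfl

lemma permMat_one : permMat F (1 : Equiv.Perm ι) = 1 := by
  ext a b
  rw [permMat_apply, Matrix.one_apply]
  rfl

lemma permMat_mul_apply (σ : Equiv.Perm ι) (N : Matrix ι ι F) (a b : ι) :
    (permMat F σ * N) a b = N (σ⁻¹ a) b := by
  rw [Matrix.mul_apply, Finset.sum_eq_single (σ⁻¹ a)]
  · rw [permMat_apply, if_pos (by simp), one_mul]
  · intro k _ hk
    rw [permMat_apply, if_neg, zero_mul]
    intro h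
    apply hk
    rw [h]; simp
  · intro h; exact absurd (Finset.mem_univ _) h

lemma mul_permMat_apply (σ : Equiv.Perm ι) (N : Matrix ι ι F) (a b : ι) :
    (N * permMat F σ) a b = N a (σ b) := by
  rw [Matrix.mul_apply, Finset.sum_eq_single (σ b)]
  · rw [permMat_apply, if_pos rfl, mul_one]
  · intro k _ hk
    rw [permMat_apply, if_neg hk, mul_zero]
  · intro h; exact absurd (Finset.mem_univ _) h

lemma permMat_mul (σ τ : Equiv.Perm ι) : permMat F σ * permMat F τ = permMat F (σ * τ) := by
  ext a b
  rw [mul_permMat_apply, permMat_apply, permMat_apply]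
  rfl

/-- the permutation matrix of `σ` as an element of `GL ι F` -/
def permGL (F : Type*) [Field F] (σ : Equiv.Perm ι) : GL ι F where
  val := permMat F σ
  inv := permMat F σ⁻¹
  val_inv := by rw [permMat_mul, mul_inv_cancel, permMat_one]
  inv_val := by rw [permMat_mul, inv_mul_cancel, permMat_one]

@[simp] lemma permGL_val (σ : Equiv.Perm ι) : ((permGL F σ : GL ι F) : Matrix ι ι F) = permMat F σ :=
  rfl

@[simp] lemma permGL_inv_val (σ : Equiv.Perm ι) :
    (((permGL F σ)⁻¹ : GL ι F) : Matrix ι ι F) = permMat F σ⁻¹ := rfl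

lemma permGL_mul (σ τ : Equiv.Perm ι) : permGL F σ * permGL F τ = permGL F (σ * τ) := by
  apply Units.ext
  rw [Units.val_mul, permGL_val, permGL_val, permGL_val, permMat_mul]

lemma permGL_one : permGL F (1 : Equiv.Perm ι) = 1 := by
  apply Units.ext
  rw [permGL_val, permMat_one, Units.val_one]

lemma permGL_inv (σ : Equiv.Perm ι) : (permGL F σ)⁻¹ = permGL F σ⁻¹ := by
  apply Units.ext
  rfl

lemma permGL_mem_monGL (σ : Equiv.Perm ι) : permGL F σ ∈ monGL ι F :=
  ⟨σ, fun i j hij => by rw [permGL_val, permMat_apply, if_neg hij]⟩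

lemma permMat_eq_permMatrix (σ : Equiv.Perm ι) : permMat F σ = (σ⁻¹).permMatrix F := by
  ext a b
  rw [permMat_apply, Equiv.Perm.permMatrix, PEquiv.toMatrix_apply]
  simp only [Equiv.toPEquiv_apply, Option.mem_def, Option.some.injEq]
  by_cases h : a = σ b
  · rw [if_pos h, if_pos]
    rw [h]; simp
  · rw [if_neg h, if_neg]
    intro h'
    apply h
    rw [← h']; simp

lemma det_permMat (σ : Equiv.Perm ι) : (permMat F σ).det = ((Equiv.Perm.sign σ : ℤˣ) : ℤ) := by
  rw [permMat_eq_permMatrix, Matrix.det_permutation]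
  simp

lemma permGL_mem_slGL {σ : Equiv.Perm ι} (hσ : Equiv.Perm.sign σ = 1) : permGL F σ ∈ slGL ι F := by
  rw [mem_slGL, permGL_val, det_permMat, hσ]
  simp

lemma permGL_mem_blockGL {A : Finset ι} {σ : Equiv.Perm ι} (hσ : ∀ i ∈ A, σ i = i) :
    permGL F σ ∈ blockGL ι F A := by
  intro i hi j
  rw [permGL_val, permMat_apply, permMat_apply, Matrix.one_apply, Matrix.one_apply]
  constructor
  · by_cases hij : i = j
    · subst hij; rw [if_pos (hσ i hi).symm, if_pos rfl]
    · rw [if_neg hij, if_neg]
      intro h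
      apply hij
      have : σ i = σ j := by rw [hσ i hi]; exact h
      exact σ.injective this
  · rw [hσ i hi]

end Cfsg.Agent.Lib.Helper94.Mono
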