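/-
Helper94, project MONO: the descent step.  A non-monomial element with a monomial column `j` gives
a transvection `1 + e_j ρ` or a non-monomial element that is the identity in row and column `j`.
-/
import Mathlib
import Cfsg.Agent.Lib.Helper94.Mono.GLStep1
import Cfsg.Agent.Lib.Helper94.Mono.Perm

set_option autoImplicit false
set_option linter.unusedSectionVars false

namespace Cfsg.Agent.Lib.Helper94.Mono

open Matrix

variable {ι : Type} [Fintype ι] [DecidableEq ι] {F : Type*} [Field F]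

lemma inv_mul_val (g : GL ι F) : ((g⁻¹ : GL ι F) : Matrix ι ι F) * (g : Matrix ι ι F) = 1 := by
  rw [← Units.val_mul, inv_mul_cancel, Units.val_one]

lemma mul_inv_val (g : GL ι F) : (g : Matrix ι ι F) * ((g⁻¹ : GL ι F) : Matrix ι ι F) = 1 := by
  rw [← Units.val_mul, mul_inv_cancel, Units.val_one]

/-- a monomial column of an invertible matrix has a non-zero entry -/
lemma colMono_entry_ne_zero {g : GL ι F} {i j : ι}
    (hi : ∀ i', i' ≠ i → (g : Matrix ι ι F) i' j = 0) : (g : Matrix ι ι F) i j ≠ 0 := by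
  intro h0
  have h1 := congrFun (congrFun (inv_mul_val g) j) j
  rw [Matrix.mul_apply, Matrix.one_apply_eq, Finset.sum_eq_zero] at h1
  · exact zero_ne_one h1
  · intro k _
    by_cases hk : k = i
    · rw [hk, h0, mul_zero]
    · rw [hi k hk, mul_zero]

lemma exists_unit_ne_one [Fintype F] (hq : 3 ≤ Fintype.card F) : ∃ μ : Fˣ, (μ : F) ≠ 1 := by
  classical
  by_contra hcon
  push Not at hcon
  have hsub : (Finset.univ : Finset F) ⊆ {0, 1} := by
    intro x _
    by_cases hx : x = 0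
    · simp [hx]
    · have := hcon (Units.mk0 x hx)
      simp only [Units.val_mk0] at this
      simp [this]
  have := Finset.card_le_card hsub
  have h3 : ({0, 1} : Finset F).card ≤ 2 := Finset.card_le_two
  rw [Finset.card_univ] at this
  omega

/-- the commutator of `dg j μ` and an element `g1` with `g1 e_j = e_j` -/
lemma comm_dg_eq_rowTr {g1 : GL ι F} {j : ι}
    (hcol : ∀ a, (g1 : Matrix ι ι F) a j = (1 : Matrix ι ι F) a j) (μ : Fˣ)
    (ρ : ι → F) (hρ : ρ j = 0)
    (hρd : ∀ b, b ≠ j → ρ b = (1 - ((μ⁻¹ : Fˣ) : F)) * (g1 : Matrix ι ι F) j b) :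
    (dg j μ)⁻¹ * g1⁻¹ * dg j μ * g1 = rowTr j ρ hρ := by
  have key : dg j μ * g1 = g1 * dg j μ * rowTr j ρ hρ := by
    apply Units.ext
    ext a b
    rw [Units.val_mul, Units.val_mul, Units.val_mul, dg_mul_apply, Matrix.mul_apply]
    have hsum : ∑ k, ((g1 : Matrix ι ι F) * ((dg j μ : GL ι F) : Matrix ι ι F)) a k *
        ((rowTr j ρ hρ : GL ι F) : Matrix ι ι F) k b =
        ((g1 : Matrix ι ι F) * ((dg j μ : GL ι F) : Matrix ι ι F)) a b +
        ((g1 : Matrix ι ι F) * ((dg j μ : GL ι F) : Matrix ι ι F)) a j * ρ b := by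
      simp_rw [rowTr_apply, mul_add, Finset.sum_add_distrib]
      congr 1
      · rw [Finset.sum_eq_single b]
        · rw [if_pos rfl, mul_one]
        · intro k _ hk; rw [if_neg hk, mul_zero]
        · intro h; exact absurd (Finset.mem_univ _) h
      · rw [Finset.sum_eq_single j]
        · rw [if_pos rfl]
        · intro k _ hk; rw [if_neg hk, mul_zero]
        · intro h; exact absurd (Finset.mem_univ _) h
    rw [hsum, mul_dg_apply, mul_dg_apply, if_pos rfl, hcol a]
    have hμ : (μ : F) * ((μ⁻¹ : Fˣ) : F) = 1 := by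
      rw [← Units.val_mul, mul_inv_cancel, Units.val_one]
    by_cases ha : a = j
    · subst ha
      rw [if_pos rfl, Matrix.one_apply_eq]
      by_cases hb : b = a
      · subst hb
        rw [if_pos rfl, hρ, hcol b, Matrix.one_apply_eq]; ring
      · rw [if_neg hb, hρd b hb]
        linear_combination ((g1 : Matrix ι ι F) a b) * hμ
    · rw [if_neg ha, Matrix.one_apply_ne ha, one_mul, zero_mul, zero_mul, add_zero]
      by_cases hb : b = j
      · subst hb
        rw [hcol a, Matrix.one_apply_ne ha, zero_mul]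
      · rw [if_neg hb, mul_one]
  calc (dg j μ)⁻¹ * g1⁻¹ * dg j μ * g1 = (dg j μ)⁻¹ * g1⁻¹ * (dg j μ * g1) := by group
    _ = (dg j μ)⁻¹ * g1⁻¹ * (g1 * dg j μ * rowTr j ρ hρ) := by rw [key]
    _ = rowTr j ρ hρ := by group

theorem descent {A : Finset ι} {H : Subgroup (GL ι F)} [Fintype F] (hq : 3 ≤ Fintype.card F)
    (hMon : monGL ι F ⊓ blockGL ι F A ≤ H) (hH : H ≤ blockGL ι F A)
    {g : GL ι F} (hg : g ∈ H) (hgm : g ∉ monGL ι F) {j : ι} (hj : j ∉ A) (hc : colMono g j) :
    (∃ (ρ : ι → F) (hρ : ρ j = 0), ρ ≠ 0 ∧ (∀ i ∈ A, ρ i = 0) ∧ rowTr j ρ hρ ∈ H) ∨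
    (∃ g' ∈ H ⊓ blockGL ι F (insert j A), g' ∉ monGL ι F) := by
  obtain ⟨i, hi⟩ := hc
  have hcne := colMono_entry_ne_zero hi
  have hiA : i ∉ A := by
    intro hiA
    have h1 := ((hH hg) i hiA j).1
    have hij : i ≠ j := fun h => hj (h ▸ hiA)
    rw [Matrix.one_apply_ne hij] at h1
    exact hcne h1
  set cu : Fˣ := Units.mk0 _ hcne with hcu
  -- normalise
  set y : GL ι F := dg j cu⁻¹ * permGL F (Equiv.swap i j) with hy
  have hswapA : ∀ k ∈ A, Equiv.swap i j k = k := by
    intro k hk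
    apply Equiv.swap_apply_of_ne_of_ne
    · exact fun h => hiA (h ▸ hk)
    · exact fun h => hj (h ▸ hk)
  have hyH : y ∈ H := by
    apply H.mul_mem
    · exact hMon ⟨dg_mem_monGL _ _, dg_mem_blockGL hj _⟩
    · exact hMon ⟨permGL_mem_monGL _, permGL_mem_blockGL hswapA⟩
  have hym : y ∈ monGL ι F :=
    (monGL ι F).mul_mem (dg_mem_monGL _ _) (permGL_mem_monGL _)
  set g1 : GL ι F := y * g with hg1
  have hg1H : g1 ∈ H := H.mul_mem hyH hg
  have hg1m : g1 ∉ monGL ι F := by
    intro h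
    apply hgm
    have : g = y⁻¹ * g1 := by rw [hg1]; group
    rw [this]
    exact (monGL ι F).mul_mem ((monGL ι F).inv_mem hym) h
  have hcol : ∀ a, (g1 : Matrix ι ι F) a j = (1 : Matrix ι ι F) a j := by
    intro a
    rw [hg1, hy, Units.val_mul, Units.val_mul, Matrix.mul_assoc, dg_mul_apply, permGL_val,
      permMat_mul_apply, Equiv.swap_inv]
    by_cases ha : a = j
    · subst ha
      rw [if_pos rfl, Equiv.swap_apply_right, Matrix.one_apply_eq, hcu]
      simp only [Units.val_inv_eq_inv_val, Units.val_mk0]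
      exact inv_mul_cancel₀ hcne
    · rw [if_neg ha, one_mul, Matrix.one_apply_ne ha]
      apply hi
      intro h
      apply ha
      have : Equiv.swap i j (Equiv.swap i j a) = Equiv.swap i j i := by rw [h]
      rwa [Equiv.swap_apply_self, Equiv.swap_apply_left] at this
  by_cases hrow : ∀ b, b ≠ j → (g1 : Matrix ι ι F) j b = 0
  · right
    refine ⟨g1, ⟨hg1H, ?_⟩, hg1m⟩
    intro k hk l
    rcases Finset.mem_insert.1 hk with rfl | hkA
    · refine ⟨?_, hcol l⟩
      by_cases hl : l = k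
      · subst hl; exact hcol l
      · rw [hrow l hl, Matrix.one_apply_ne (Ne.symm hl)]
    · exact (hH hg1H) k hkA l
  · left
    push Not at hrow
    obtain ⟨b0, hb0, hb0'⟩ := hrow
    obtain ⟨μ, hμ⟩ := exists_unit_ne_one hq
    have hμ' : (1 - ((μ⁻¹ : Fˣ) : F)) ≠ 0 := by
      intro h
      apply hμ
      have h1 : ((μ⁻¹ : Fˣ) : F) = 1 := by linear_combination -h
      have h2 : (μ : F) * ((μ⁻¹ : Fˣ) : F) = 1 := by
        rw [← Units.val_mul, mul_inv_cancel, Units.val_one]
      rw [h1, mul_one] at h2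
      exact h2
    set ρ : ι → F := fun b => if b = j then 0 else (1 - ((μ⁻¹ : Fˣ) : F)) * (g1 : Matrix ι ι F) j b
      with hρdef
    have hρj : ρ j = 0 := by simp [hρdef]
    have hρd : ∀ b, b ≠ j → ρ b = (1 - ((μ⁻¹ : Fˣ) : F)) * (g1 : Matrix ι ι F) j b := by
      intro b hb; simp [hρdef, hb]
    refine ⟨ρ, hρj, ?_, ?_, ?_⟩
    · intro h
      have := congrFun h b0
      rw [hρd b0 hb0] at this
      rcases mul_eq_zero.1 this with h1 | h1
      · exact hμ' h1
      · exact hb0' h1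
    · intro k hk
      have hkj : k ≠ j := fun h => hj (h ▸ hk)
      rw [hρd k hkj, ((hH hg1H) k hk j).2, Matrix.one_apply_ne (Ne.symm hkj), mul_zero]
    · rw [← comm_dg_eq_rowTr hcol μ ρ hρj hρd]
      have hdH : (dg j μ : GL ι F) ∈ H := hMon ⟨dg_mem_monGL _ _, dg_mem_blockGL hj _⟩
      exact H.mul_mem (H.mul_mem (H.mul_mem (H.inv_mem hdH) (H.inv_mem hg1H)) hdH) hg1H

end Cfsg.Agent.Lib.Helper94.Mono
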