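/-
Helper94, project MONO: an overgroup `H` of the full monomial group of the free coordinates
`W = univ \ A` (`|W| ≥ 3`, `q ≥ 5`) in which every element with a monomial column is monomial, is
monomial.
-/
import Mathlib
import Cfsg.Agent.Lib.Helper94.Mono.GLDesc

set_option autoImplicit false
set_option linter.unusedSectionVars false

namespace Cfsg.Agent.Lib.Helper94.Mono

open Matrix

variable {ι : Type} [Fintype ι] [DecidableEq ι] {F : Type*} [Field F]

/-- entries of `B * dg m1 l1 * dg m2 l2 * g` -/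
lemma two_dg_conj_apply (B g : Matrix ι ι F) {m1 m2 : ι} (hm : m1 ≠ m2) (l1 l2 : Fˣ) (i j : ι) :
    (B * (((dg m1 l1 : GL ι F) : Matrix ι ι F) * (((dg m2 l2 : GL ι F) : Matrix ι ι F) * g))) i j =
      (B * g) i j + ((l1 : F) - 1) * (B i m1 * g m1 j) + ((l2 : F) - 1) * (B i m2 * g m2 j) := by
  rw [Matrix.mul_apply, Matrix.mul_apply]
  have key : ∀ k, B i k * (((dg m1 l1 : GL ι F) : Matrix ι ι F) *
      (((dg m2 l2 : GL ι F) : Matrix ι ι F) * g)) k j =
      B i k * g k j + (if k = m1 then ((l1 : F) - 1) * (B i m1 * g m1 j) else 0) +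
        (if k = m2 then ((l2 : F) - 1) * (B i m2 * g m2 j) else 0) := by
    intro k
    rw [dg_mul_apply, dg_mul_apply]
    by_cases h1 : k = m1
    · subst h1; rw [if_pos rfl, if_neg hm, if_pos rfl, if_neg hm]; ring
    · by_cases h2 : k = m2
      · subst h2; rw [if_neg h1, if_pos rfl, if_neg h1, if_pos rfl]; ring
      · rw [if_neg h1, if_neg h2, if_neg h1, if_neg h2]; ring
  simp_rw [key]
  rw [Finset.sum_add_distrib, Finset.sum_add_distrib, Finset.sum_ite_eq', Finset.sum_ite_eq',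
    if_pos (Finset.mem_univ _), if_pos (Finset.mem_univ _)]

/-- two non-zero entries of a monomial matrix in the same column are in the same row -/
lemma eq_of_mon_of_ne_zero {h : GL ι F} (hm : h ∈ monGL ι F) {i1 i2 j : ι}
    (h1 : (h : Matrix ι ι F) i1 j ≠ 0) (h2 : (h : Matrix ι ι F) i2 j ≠ 0) : i1 = i2 := by
  obtain ⟨σ, hσ⟩ := hm
  have e1 : i1 = σ j := by
    by_contra hne; exact h1 (hσ i1 j hne)
  have e2 : i2 = σ j := by
    by_contra hne; exact h2 (hσ i2 j hne)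
  rw [e1, e2]

lemma exists_three_units [Fintype F] (hq : 5 ≤ Fintype.card F) :
    ∃ a b c : Fˣ, (a : F) ≠ 1 ∧ (b : F) ≠ 1 ∧ (c : F) ≠ 1 ∧ a ≠ b ∧ a ≠ c ∧ b ≠ c := by
  classical
  have hcard : 2 < ((Finset.univ : Finset F) \ {0, 1}).card := by
    have h1 := Finset.card_sdiff_add_card_inter (Finset.univ : Finset F) {0, 1}
    have h2 : ((Finset.univ : Finset F) ∩ {0, 1}).card ≤ 2 :=
      le_trans (Finset.card_le_card Finset.inter_subset_right) Finset.card_le_two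
    rw [Finset.card_univ] at h1
    omega
  obtain ⟨a, b, c, ha, hb, hc, hab, hac, hbc⟩ := Finset.two_lt_card_iff.1 hcard
  simp only [Finset.mem_sdiff, Finset.mem_univ, Finset.mem_insert, Finset.mem_singleton,
    true_and, not_or] at ha hb hc
  refine ⟨Units.mk0 a ha.1, Units.mk0 b hb.1, Units.mk0 c hc.1, ha.2, hb.2, hc.2, ?_, ?_, ?_⟩
  · intro h; exact hab (by simpa using congrArg Units.val h)
  · intro h; exact hac (by simpa using congrArg Units.val h)
  · intro h; exact hbc (by simpa using congrArg Units.val h)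

theorem le_mon_of_TI_three [Fintype F] (hq : 5 ≤ Fintype.card F) {A : Finset ι}
    {H : Subgroup (GL ι F)} (hMon : monGL ι F ⊓ blockGL ι F A ≤ H) (hH : H ≤ blockGL ι F A)
    (hTI : TI A H) (hW : 3 ≤ (Finset.univ \ A).card) : H ≤ monGL ι F := by
  classical
  intro g hg
  by_contra hgm
  have hq4 : 4 ≤ Fintype.card F := by omega
  have hBH : g⁻¹ ∈ H := H.inv_mem hg
  have hBm : g⁻¹ ∉ monGL ι F := fun h => hgm (by simpa using (monGL ι F).inv_mem h)
  have nzg := noZero_of_TI hq4 hMon hH hTI hg hgm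
  have nzB := noZero_of_TI hq4 hMon hH hTI hBH hBm
  obtain ⟨j, i1, i2, hjW, hi1W, hi2W, hji1, hji2, hi12⟩ := Finset.two_lt_card_iff.1 hW
  have hjA : j ∉ A := (Finset.mem_sdiff.1 hjW).2
  have hi1A : i1 ∉ A := (Finset.mem_sdiff.1 hi1W).2
  have hi2A : i2 ∉ A := (Finset.mem_sdiff.1 hi2W).2
  have hdH : ∀ m, m ∉ A → ∀ c : Fˣ, (dg m c : GL ι F) ∈ H :=
    fun m hm c => hMon ⟨dg_mem_monGL _ _, dg_mem_blockGL hm _⟩
  have hhH : ∀ m1 m2, m1 ∉ A → m2 ∉ A → ∀ l1 l2 : Fˣ,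
      g⁻¹ * (dg m1 l1 * (dg m2 l2 * g)) ∈ H := fun m1 m2 h1 h2 l1 l2 =>
    H.mul_mem hBH (H.mul_mem (hdH m1 h1 l1) (H.mul_mem (hdH m2 h2 l2) hg))
  have hhval : ∀ m1 m2, m1 ≠ m2 → ∀ (l1 l2 : Fˣ) (a b : ι),
      ((g⁻¹ * (dg m1 l1 * (dg m2 l2 * g)) : GL ι F) : Matrix ι ι F) a b =
        (1 : Matrix ι ι F) a b +
          ((l1 : F) - 1) * (((g⁻¹ : GL ι F) : Matrix ι ι F) a m1 * (g : Matrix ι ι F) m1 b) +
          ((l2 : F) - 1) * (((g⁻¹ : GL ι F) : Matrix ι ι F) a m2 * (g : Matrix ι ι F) m2 b) := by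
    intro m1 m2 hm l1 l2 a b
    rw [Units.val_mul, Units.val_mul, Units.val_mul, two_dg_conj_apply _ _ hm, inv_mul_val]
  -- Test 1
  have T1 : ∀ m, m ∉ A → ∀ i, i ∉ A →
      ((g⁻¹ : GL ι F) : Matrix ι ι F) i m * (g : Matrix ι ι F) m i = 1 := by
    intro m hm i hi
    by_contra hne
    set c : F := ((g⁻¹ : GL ι F) : Matrix ι ι F) i m * (g : Matrix ι ι F) m i with hc
    have hc0 : c ≠ 0 := mul_ne_zero (nzB i hi m hm) (nzg m hm i hi)
    have hl0 : 1 - c⁻¹ ≠ 0 := by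
      intro h
      apply hne
      have h1 : c⁻¹ = 1 := by linear_combination -h
      have h2 : c * c⁻¹ = 1 := mul_inv_cancel₀ hc0
      rw [h1, mul_one] at h2
      exact h2
    obtain ⟨m2, hm2A, hm2⟩ : ∃ m2, m2 ∉ A ∧ m ≠ m2 := by
      by_cases h : m = j
      · exact ⟨i1, hi1A, h ▸ hji1⟩
      · exact ⟨j, hjA, h⟩
    set l : Fˣ := Units.mk0 (1 - c⁻¹) hl0 with hl
    have hlv : ((l : F) - 1) = - c⁻¹ := by rw [hl, Units.val_mk0]; ring
    have hhm : g⁻¹ * (dg m l * (dg m2 1 * g)) ∉ monGL ι F := by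
      intro hmon
      apply hi12
      apply eq_of_mon_of_ne_zero hmon (j := j)
      · rw [hhval m m2 hm2, Matrix.one_apply_ne hji1.symm, hlv, Units.val_one, sub_self, zero_mul,
          add_zero, zero_add]
        exact mul_ne_zero (neg_ne_zero.2 (inv_ne_zero hc0))
          (mul_ne_zero (nzB i1 hi1A m hm) (nzg m hm j hjA))
      · rw [hhval m m2 hm2, Matrix.one_apply_ne hji2.symm, hlv, Units.val_one, sub_self, zero_mul,
          add_zero, zero_add]
        exact mul_ne_zero (neg_ne_zero.2 (inv_ne_zero hc0))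
          (mul_ne_zero (nzB i2 hi2A m hm) (nzg m hm j hjA))
    apply noZero_of_TI hq4 hMon hH hTI (hhH m m2 hm hm2A l 1) hhm i hi i hi
    rw [hhval m m2 hm2, Matrix.one_apply_eq, hlv, Units.val_one, sub_self, zero_mul, add_zero,
      ← hc, neg_mul, inv_mul_cancel₀ hc0, add_neg_cancel]
  -- Test 2
  have T2 : ∀ l : Fˣ, (l : F) ≠ 1 → ∃ i, (i = i1 ∨ i = i2) ∧
      ((l : F) - 1) * (((g⁻¹ : GL ι F) : Matrix ι ι F) i j * (g : Matrix ι ι F) j j) =
        (l : F) * (((g⁻¹ : GL ι F) : Matrix ι ι F) i i1 * (g : Matrix ι ι F) i1 j) := by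
    intro l hl1
    have hl' : 1 - (l : F) ≠ 0 := fun h => hl1 (by linear_combination -h)
    set l' : Fˣ := Units.mk0 (1 - (l : F)) hl' with hl'def
    set h : GL ι F := g⁻¹ * (dg j l * (dg i1 l' * g)) with hh
    have hhmon : h ∈ monGL ι F := by
      by_contra hm
      apply noZero_of_TI hq4 hMon hH hTI (hhH j i1 hjA hi1A l l') hm j hjA j hjA
      rw [hhval j i1 hji1, Matrix.one_apply_eq, T1 j hjA j hjA, T1 i1 hi1A j hjA, hl'def,
        Units.val_mk0]
      ring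
    obtain ⟨σ, hσ⟩ := hhmon
    have hz : ∀ i, i ≠ j → i ≠ σ j → ((l : F) - 1) *
        (((g⁻¹ : GL ι F) : Matrix ι ι F) i j * (g : Matrix ι ι F) j j) =
        (l : F) * (((g⁻¹ : GL ι F) : Matrix ι ι F) i i1 * (g : Matrix ι ι F) i1 j) := by
      intro i hij hiσ
      have := hσ i j hiσ
      rw [hh, hhval j i1 hji1, Matrix.one_apply_ne hij, hl'def, Units.val_mk0] at this
      linear_combination this
    by_cases h1 : i1 = σ j
    · refine ⟨i2, Or.inr rfl, hz i2 hji2.symm ?_⟩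
      intro h2; exact hi12 (h1.trans h2.symm)
    · exact ⟨i1, Or.inl rfl, hz i1 hji1.symm h1⟩
  -- pigeonhole
  obtain ⟨a, b, c, ha, hb, hc, hab, hac, hbc⟩ := exists_three_units hq
  have fin : ∀ (l l' : Fˣ), l ≠ l' → ∀ i, i ∉ A →
      ((l : F) - 1) * (((g⁻¹ : GL ι F) : Matrix ι ι F) i j * (g : Matrix ι ι F) j j) =
        (l : F) * (((g⁻¹ : GL ι F) : Matrix ι ι F) i i1 * (g : Matrix ι ι F) i1 j) →
      ((l' : F) - 1) * (((g⁻¹ : GL ι F) : Matrix ι ι F) i j * (g : Matrix ι ι F) j j) =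
        (l' : F) * (((g⁻¹ : GL ι F) : Matrix ι ι F) i i1 * (g : Matrix ι ι F) i1 j) → False := by
    intro l l' hll i hi e1 e2
    have hu : ((g⁻¹ : GL ι F) : Matrix ι ι F) i j * (g : Matrix ι ι F) j j ≠ 0 :=
      mul_ne_zero (nzB i hi j hjA) (nzg j hjA j hjA)
    have hd : (l : F) - (l' : F) ≠ 0 := by
      intro h; apply hll; apply Units.ext; linear_combination h
    have h3 : ((l : F) - (l' : F)) *
        (((g⁻¹ : GL ι F) : Matrix ι ι F) i j * (g : Matrix ι ι F) j j -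
          ((g⁻¹ : GL ι F) : Matrix ι ι F) i i1 * (g : Matrix ι ι F) i1 j) = 0 := by
      linear_combination e1 - e2
    have h4 := (mul_eq_zero.1 h3).resolve_left hd
    have h5 : ((g⁻¹ : GL ι F) : Matrix ι ι F) i j * (g : Matrix ι ι F) j j = 0 := by
      linear_combination (l : F) * h4 - e1
    exact hu h5
  obtain ⟨ia, hia, ea⟩ := T2 a ha
  obtain ⟨ib, hib, eb⟩ := T2 b hb
  obtain ⟨ic, hic, ec⟩ := T2 c hc
  have hiA : ∀ i, (i = i1 ∨ i = i2) → i ∉ A := by
    rintro i (rfl | rfl)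
    · exact hi1A
    · exact hi2A
  rcases hia with rfl | rfl <;> rcases hib with rfl | rfl <;> rcases hic with rfl | rfl
  · exact fin a b hab _ hi1A ea eb
  · exact fin a b hab _ hi1A ea eb
  · exact fin a c hac _ hi1A ea ec
  · exact fin b c hbc _ hi2A eb ec
  · exact fin b c hbc _ hi1A eb ec
  · exact fin a c hac _ hi2A ea ec
  · exact fin a b hab _ hi2A ea eb
  · exact fin a b hab _ hi2A ea eb

end Cfsg.Agent.Lib.Helper94.Mono
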