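/-
Helper94, project MONO: the case of two free coordinates (`q ≥ 7`).
-/
import Mathlib
import Cfsg.Agent.Lib.Helper94.Mono.GLTest3

set_option autoImplicit false
set_option linter.unusedSectionVars false

namespace Cfsg.Agent.Lib.Helper94.Mono

open Matrix

variable {ι : Type} [Fintype ι] [DecidableEq ι] {F : Type*} [Field F]

lemma conj_two_dg_apply (g : GL ι F) {m1 m2 : ι} (hm : m1 ≠ m2) (l1 l2 : Fˣ) (x y : ι) :
    ((g⁻¹ * (dg m1 l1 * (dg m2 l2 * g)) : GL ι F) : Matrix ι ι F) x y =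
      (1 : Matrix ι ι F) x y +
        ((l1 : F) - 1) * (((g⁻¹ : GL ι F) : Matrix ι ι F) x m1 * (g : Matrix ι ι F) m1 y) +
        ((l2 : F) - 1) * (((g⁻¹ : GL ι F) : Matrix ι ι F) x m2 * (g : Matrix ι ι F) m2 y) := by
  rw [Units.val_mul, Units.val_mul, Units.val_mul, two_dg_conj_apply _ _ hm, inv_mul_val]

lemma blockGL_apply_eq_zero {A : Finset ι} {g : GL ι F} (hg : g ∈ blockGL ι F A) {i k : ι}
    (hi : i ∉ A) (hk : k ∈ A) : (g : Matrix ι ι F) i k = 0 := by
  rw [(hg k hk i).2]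
  exact Matrix.one_apply_ne (fun h => hi (h ▸ hk))

lemma mul_apply_two {A : Finset ι} {a b : ι} (hab : a ≠ b) (hW : ∀ k, k ∉ A → k = a ∨ k = b)
    {g : GL ι F} (hg : g ∈ blockGL ι F A) (N : Matrix ι ι F) {i : ι} (hi : i ∉ A) (j : ι) :
    ((g : Matrix ι ι F) * N) i j =
      (g : Matrix ι ι F) i a * N a j + (g : Matrix ι ι F) i b * N b j := by
  rw [Matrix.mul_apply]
  have h2 : ∑ k ∈ ({a, b} : Finset ι), (g : Matrix ι ι F) i k * N k j =
      (g : Matrix ι ι F) i a * N a j + (g : Matrix ι ι F) i b * N b j := Finset.sum_pair hab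
  rw [← h2]
  symm
  apply Finset.sum_subset (Finset.subset_univ _)
  intro k _ hk
  have hkA : k ∈ A := by
    by_contra h
    rcases hW k h with rfl | rfl <;> simp at hk
  rw [blockGL_apply_eq_zero hg hi hkA, zero_mul]

lemma exists_unit_t [Fintype F] (hq : 7 ≤ Fintype.card F) :
    ∃ t : Fˣ, (t : F) ≠ 1 ∧ (t : F) ≠ -1 ∧ (t : F) ^ 2 ≠ -1 := by
  classical
  have hdeg : (Polynomial.X ^ 5 - Polynomial.X : Polynomial F).natDegree = 5 := by
    compute_degree!
  have hne : (Polynomial.X ^ 5 - Polynomial.X : Polynomial F) ≠ 0 := by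
    intro h
    rw [h, Polynomial.natDegree_zero] at hdeg
    omega
  obtain ⟨r, hr⟩ := Polynomial.exists_eval_ne_zero_of_natDegree_lt_card _ hne (by
    rw [hdeg, Cardinal.mk_fintype]
    exact_mod_cast (by omega : 5 < Fintype.card F))
  simp only [Polynomial.eval_sub, Polynomial.eval_pow, Polynomial.eval_X] at hr
  have hr0 : r ≠ 0 := by
    rintro rfl
    apply hr; ring
  refine ⟨Units.mk0 r hr0, ?_, ?_, ?_⟩
  · rw [Units.val_mk0]; rintro rfl; apply hr; ring
  · rw [Units.val_mk0]; rintro rfl; apply hr; ring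
  · rw [Units.val_mk0]; intro h; apply hr
    have : r ^ 5 = (r ^ 2) ^ 2 * r := by ring
    rw [this, h]; ring

/-- under `TI` with two free coordinates, a non-monomial element has `P + Q = 0` -/
lemma two_PQ [Fintype F] (hq : 4 ≤ Fintype.card F) {A : Finset ι}
    {H : Subgroup (GL ι F)} (hMon : monGL ι F ⊓ blockGL ι F A ≤ H) (hH : H ≤ blockGL ι F A)
    (hTI : TI A H) {a b : ι} (hab : a ≠ b) (ha : a ∉ A) (hb : b ∉ A)
    (hW : ∀ k, k ∉ A → k = a ∨ k = b) {g : GL ι F} (hg : g ∈ H) (hgm : g ∉ monGL ι F) :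
    (g : Matrix ι ι F) a a * (g : Matrix ι ι F) b b +
      (g : Matrix ι ι F) a b * (g : Matrix ι ι F) b a = 0 ∧
    (g : Matrix ι ι F) a a * (g : Matrix ι ι F) b b -
      (g : Matrix ι ι F) a b * (g : Matrix ι ι F) b a ≠ 0 := by
  have hBH : g⁻¹ ∈ H := H.inv_mem hg
  have hBm : g⁻¹ ∉ monGL ι F := fun h => hgm (by simpa using (monGL ι F).inv_mem h)
  have nzg := noZero_of_TI hq hMon hH hTI hg hgm
  have nzB := noZero_of_TI hq hMon hH hTI hBH hBm
  have E1 := mul_apply_two hab hW (hH hg) ((g⁻¹ : GL ι F) : Matrix ι ι F) ha a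
  have E2 := mul_apply_two hab hW (hH hg) ((g⁻¹ : GL ι F) : Matrix ι ι F) hb a
  rw [mul_inv_val, Matrix.one_apply_eq] at E1
  rw [mul_inv_val, Matrix.one_apply_ne hab.symm] at E2
  set α := (g : Matrix ι ι F) a a with hα
  set β := (g : Matrix ι ι F) a b with hβ
  set γ := (g : Matrix ι ι F) b a with hγ
  set δ := (g : Matrix ι ι F) b b with hδ
  set Baa := ((g⁻¹ : GL ι F) : Matrix ι ι F) a a with hBaa
  set Bba := ((g⁻¹ : GL ι F) : Matrix ι ι F) b a with hBba
  have hα0 : α ≠ 0 := nzg a ha a ha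
  have hβ0 : β ≠ 0 := nzg a ha b hb
  have hδ0 : δ ≠ 0 := nzg b hb b hb
  have hBaa0 : Baa ≠ 0 := nzB a ha a ha
  have hBba0 : Bba ≠ 0 := nzB b hb a ha
  have hdet : Baa * (α * δ - β * γ) = δ := by linear_combination δ * (-E1) - β * (-E2)
  have hdet0 : α * δ - β * γ ≠ 0 := by
    intro h
    rw [h, mul_zero] at hdet
    exact hδ0 hdet.symm
  refine ⟨?_, hdet0⟩
  set c : F := Baa * α with hc
  have hc0 : c ≠ 0 := mul_ne_zero hBaa0 hα0
  have hc1 : c ≠ 1 := by
    intro h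
    have : β * Bba = 0 := by linear_combination -E1 - h
    exact mul_ne_zero hβ0 hBba0 this
  have hl0 : 1 - c⁻¹ ≠ 0 := by
    intro h
    apply hc1
    have h1 : c⁻¹ = 1 := by linear_combination -h
    have h2 : c * c⁻¹ = 1 := mul_inv_cancel₀ hc0
    rw [h1, mul_one] at h2
    exact h2
  set l : Fˣ := Units.mk0 (1 - c⁻¹) hl0 with hl
  have hlv : ((l : F) - 1) = - c⁻¹ := by rw [hl, Units.val_mk0]; ring
  have hdH : ∀ m, m ∉ A → ∀ c : Fˣ, (dg m c : GL ι F) ∈ H :=
    fun m hm c => hMon ⟨dg_mem_monGL _ _, dg_mem_blockGL hm _⟩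
  set h : GL ι F := g⁻¹ * (dg a l * (dg b 1 * g)) with hh
  have hhH : h ∈ H := H.mul_mem hBH (H.mul_mem (hdH a ha l) (H.mul_mem (hdH b hb 1) hg))
  have hhmon : h ∈ monGL ι F := by
    by_contra hm
    apply noZero_of_TI hq hMon hH hTI hhH hm a ha a ha
    rw [hh, conj_two_dg_apply g hab, Matrix.one_apply_eq, hlv, Units.val_one, sub_self, zero_mul,
      add_zero, ← hBaa, ← hα, ← hc, neg_mul, inv_mul_cancel₀ hc0, add_neg_cancel]
  have hab0 : (h : Matrix ι ι F) a b ≠ 0 := by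
    rw [hh, conj_two_dg_apply g hab, Matrix.one_apply_ne hab, hlv, Units.val_one, sub_self,
      zero_mul, add_zero, zero_add, ← hBaa, ← hβ]
    exact mul_ne_zero (neg_ne_zero.2 (inv_ne_zero hc0)) (mul_ne_zero hBaa0 hβ0)
  have hbb0 : (h : Matrix ι ι F) b b = 0 := by
    by_contra hne
    exact hab (eq_of_mon_of_ne_zero hhmon hab0 hne)
  rw [hh, conj_two_dg_apply g hab, Matrix.one_apply_eq, hlv, Units.val_one, sub_self, zero_mul,
    add_zero, ← hBba, ← hβ] at hbb0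
  -- 1 - c⁻¹ (Bba β) = 0, Bba β = 1 - c
  have h2c : 2 * c = 1 := by
    have hcc : c * c⁻¹ = 1 := mul_inv_cancel₀ hc0
    have h3 : c - Bba * β = 0 := by
      linear_combination c * hbb0 + (Bba * β) * hcc
    linear_combination h3 - E1
  have hcP : c * (α * δ - β * γ) = α * δ := by rw [hc]; linear_combination α * hdet
  linear_combination (-2) * hcP + (α * δ - β * γ) * h2c

theorem le_mon_of_TI_two [Fintype F] (hq : 7 ≤ Fintype.card F) {A : Finset ι}
    {H : Subgroup (GL ι F)} (hMon : monGL ι F ⊓ blockGL ι F A ≤ H) (hH : H ≤ blockGL ι F A)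
    (hTI : TI A H) (hW : (Finset.univ \ A).card = 2) : H ≤ monGL ι F := by
  classical
  intro g hg
  by_contra hgm
  have hq4 : 4 ≤ Fintype.card F := by omega
  obtain ⟨a, b, hab, hWab⟩ := Finset.card_eq_two.1 hW
  have ha : a ∉ A := by
    have : a ∈ Finset.univ \ A := by rw [hWab]; simp
    exact (Finset.mem_sdiff.1 this).2
  have hb : b ∉ A := by
    have : b ∈ Finset.univ \ A := by rw [hWab]; simp
    exact (Finset.mem_sdiff.1 this).2
  have hWk : ∀ k, k ∉ A → k = a ∨ k = b := by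
    intro k hk
    have : k ∈ Finset.univ \ A := Finset.mem_sdiff.2 ⟨Finset.mem_univ _, hk⟩
    rw [hWab] at this
    simpa using this
  have nzg := noZero_of_TI hq4 hMon hH hTI hg hgm
  obtain ⟨hPQ, hdet⟩ := two_PQ hq4 hMon hH hTI hab ha hb hWk hg hgm
  set α := (g : Matrix ι ι F) a a with hα
  set β := (g : Matrix ι ι F) a b with hβ
  set γ := (g : Matrix ι ι F) b a with hγ
  set δ := (g : Matrix ι ι F) b b with hδ
  have hα0 : α ≠ 0 := nzg a ha a ha
  have hβ0 : β ≠ 0 := nzg a ha b hb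
  have hγ0 : γ ≠ 0 := nzg b hb a ha
  have hδ0 : δ ≠ 0 := nzg b hb b hb
  have h2 : (2 : F) ≠ 0 := by
    intro h2
    apply hdet
    linear_combination hPQ - β * γ * h2
  obtain ⟨t, ht1, ht2, ht3⟩ := exists_unit_t hq
  have hμ0 : (t : F) * δ / α ≠ 0 := div_ne_zero (mul_ne_zero (Units.ne_zero t) hδ0) hα0
  set μ : Fˣ := Units.mk0 _ hμ0 with hμdef
  have hμ : (μ : F) * α = (t : F) * δ := by
    rw [hμdef, Units.val_mk0]; field_simp
  have hdH : (dg a μ : GL ι F) ∈ H := hMon ⟨dg_mem_monGL _ _, dg_mem_blockGL ha _⟩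
  set g' : GL ι F := g * (dg a μ * g) with hg'
  have hg'H : g' ∈ H := H.mul_mem hg (H.mul_mem hdH hg)
  have ent : ∀ x, x ∉ A → ∀ y, (g' : Matrix ι ι F) x y =
      (g : Matrix ι ι F) x a * ((μ : F) * (g : Matrix ι ι F) a y) +
        (g : Matrix ι ι F) x b * (g : Matrix ι ι F) b y := by
    intro x hx y
    rw [hg', Units.val_mul, Units.val_mul, mul_apply_two hab hWk (hH hg) _ hx, dg_mul_apply,
      dg_mul_apply, if_pos rfl, if_neg hab.symm, one_mul]
  have e1 : (g' : Matrix ι ι F) a a = α * δ * ((t : F) - 1) := by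
    rw [ent a ha a]; linear_combination hPQ + α * hμ
  have e2 : (g' : Matrix ι ι F) b b = δ * δ * (1 - (t : F)) := by
    rw [ent b hb b]; linear_combination (μ : F) * hPQ - δ * hμ
  have e3 : (g' : Matrix ι ι F) a b = β * δ * ((t : F) + 1) := by
    rw [ent a ha b]; linear_combination β * hμ
  have e4 : (g' : Matrix ι ι F) b a = γ * δ * ((t : F) + 1) := by
    rw [ent b hb a]; linear_combination γ * hμ
  have ht1' : (t : F) - 1 ≠ 0 := fun h => ht1 (by linear_combination h)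
  have ht2' : (t : F) + 1 ≠ 0 := fun h => ht2 (by linear_combination h)
  have hg'm : g' ∉ monGL ι F := by
    intro hmon
    apply hab
    apply eq_of_mon_of_ne_zero hmon (j := a)
    · rw [e1]; exact mul_ne_zero (mul_ne_zero hα0 hδ0) ht1'
    · rw [e4]; exact mul_ne_zero (mul_ne_zero hγ0 hδ0) ht2'
  obtain ⟨hPQ', -⟩ := two_PQ hq4 hMon hH hTI hab ha hb hWk hg'H hg'm
  rw [e1, e2, e3, e4] at hPQ'
  have hfin : 2 * α * δ ^ 3 * ((t : F) ^ 2 + 1) = 0 := by
    linear_combination (-1) * hPQ' + δ ^ 2 * ((t : F) + 1) ^ 2 * hPQ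
  have ht3' : (t : F) ^ 2 + 1 ≠ 0 := fun h => ht3 (by linear_combination h)
  exact mul_ne_zero (mul_ne_zero (mul_ne_zero h2 hα0) (pow_ne_zero 3 hδ0)) ht3' hfin

end Cfsg.Agent.Lib.Helper94.Mono
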